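import Mathlib
import Cfsg.Prelude.Def_ClassicalGeometry
import Cfsg.Agent.Lib.helper6.Symp
import Cfsg.Agent.Lib.helper6.SympBasis

/-!
# Project MI2 (S2142, designer helper2): minimal index of a proper subgroup of `Sp_{2m}(2)`, `m ≥ 3`.

Definitions and basic lemmas (all proved here).  Everything is over `ZMod 2`.
`V m` = column vectors, `G m` = Mathlib's symplectic group, `ff` = the frozen form `Cfsg.sympForm`,
`act g v = g *ᵥ v`, `tv v` = the transvection `x ↦ x + ff x v • v`, `sg v w = tv v * tv w * tv (v + w)`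
(for `ff v w = 0` this is `x ↦ x + ff x v • w + ff x w • v`).
-/

set_option autoImplicit false

namespace Cfsg.Agent.Lib.helper2.MI2

open Matrix

/-- Column vectors of length `2m` over `ZMod 2`. -/
abbrev V (m : ℕ) : Type := Fin m ⊕ Fin m → ZMod 2

/-- `Sp_{2m}(2)` (Mathlib's symplectic group, as a type). -/
abbrev G (m : ℕ) : Type := ↥(Matrix.symplecticGroup (Fin m) (ZMod 2))

variable {m : ℕ}

/-- The frozen alternating form on `V m`. -/
def ff (u v : V m) : ZMod 2 := Cfsg.sympForm m (ZMod 2) u v

/-- The action of `G m` on `V m`. -/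
def act (g : G m) (v : V m) : V m := g.1 *ᵥ v

/-- The symplectic transvection `x ↦ x + ff x v • v` as an element of `G m`. -/
def tv (v : V m) : G m :=
  ⟨Cfsg.sympTransvection m v 1, Cfsg.Agent.Lib.helper6.sympTransvection_mem m v 1⟩

/-- `sg v w = tv v * tv w * tv (v + w)`; for `ff v w = 0` it is `x ↦ x + ff x v • w + ff x w • v`. -/
def sg (v w : V m) : G m := tv v * tv w * tv (v + w)

/-! ## scalars -/

theorem z2_cases (a : ZMod 2) : a = 0 ∨ a = 1 := by
  revert a; decide

theorem z2_add_self (a : ZMod 2) : a + a = 0 := by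
  revert a; decide

theorem z2_mul_self (a : ZMod 2) : a * a = a := by
  revert a; decide

theorem z2_neg (a : ZMod 2) : -a = a := by
  revert a; decide

theorem z2_ne_zero (a : ZMod 2) : a ≠ 0 ↔ a = 1 := by
  revert a; decide

theorem z2_ne_one (a : ZMod 2) : a ≠ 1 ↔ a = 0 := by
  revert a; decide

theorem v_add_self (x : V m) : x + x = 0 := by
  funext i; exact z2_add_self _

theorem v_neg (x : V m) : -x = x := by
  funext i; exact z2_neg _

theorem v_sub (x y : V m) : x - y = x + y := by
  rw [sub_eq_add_neg, v_neg]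

/-! ## the form -/

theorem ff_self (v : V m) : ff v v = 0 := Cfsg.Agent.Lib.helper6.sympForm_self m v

theorem ff_comm (u v : V m) : ff u v = ff v u := by
  unfold ff
  rw [Cfsg.Agent.Lib.helper6.sympForm_swap m u v, z2_neg]

theorem ff_add_left (u u' v : V m) : ff (u + u') v = ff u v + ff u' v :=
  Cfsg.Agent.Lib.helper6.sympForm_add_left m u u' v

theorem ff_add_right (u v v' : V m) : ff u (v + v') = ff u v + ff u v' :=
  Cfsg.Agent.Lib.helper6.sympForm_add_right m u v v'

theorem ff_smul_left (c : ZMod 2) (u v : V m) : ff (c • u) v = c * ff u v :=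
  Cfsg.Agent.Lib.helper6.sympForm_smul_left m c u v

theorem ff_smul_right (c : ZMod 2) (u v : V m) : ff u (c • v) = c * ff u v :=
  Cfsg.Agent.Lib.helper6.sympForm_smul_right m c u v

@[simp] theorem ff_zero_left (v : V m) : ff 0 v = 0 :=
  Cfsg.Agent.Lib.helper6.sympForm_zero_left m v

@[simp] theorem ff_zero_right (v : V m) : ff v 0 = 0 :=
  Cfsg.Agent.Lib.helper6.sympForm_zero_right m v

/-- Nondegeneracy. -/
theorem exists_ff_eq_one {u : V m} (hu : u ≠ 0) : ∃ x : V m, ff u x = 1 := by
  obtain ⟨x, hx⟩ := Cfsg.Agent.Lib.helper6.sympForm_nondeg m u hu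
  exact ⟨x, (z2_ne_zero _).1 hx⟩

theorem eq_zero_of_ff {u : V m} (h : ∀ x : V m, ff u x = 0) : u = 0 := by
  by_contra hu
  obtain ⟨x, hx⟩ := exists_ff_eq_one hu
  rw [h x] at hx
  exact zero_ne_one hx

/-- Every coordinate is a value of the form (Riesz, explicit). -/
theorem ff_J_single (u : V m) (i : Fin m ⊕ Fin m) :
    ff u (-(Matrix.J (Fin m) (ZMod 2) *ᵥ Pi.single i 1)) = u i :=
  Cfsg.Agent.Lib.helper6.sympForm_J_single m u i

/-! ## the action -/

@[simp] theorem act_one (v : V m) : act (1 : G m) v = v := by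
  simp [act]

theorem act_mul (g h : G m) (v : V m) : act (g * h) v = act g (act h v) := by
  simp [act, Matrix.mulVec_mulVec]

@[simp] theorem act_zero (g : G m) : act g (0 : V m) = 0 := by
  simp [act]

theorem act_add (g : G m) (v w : V m) : act g (v + w) = act g v + act g w := by
  simp [act, Matrix.mulVec_add]

theorem act_smul (g : G m) (c : ZMod 2) (v : V m) : act g (c • v) = c • act g v := by
  simp [act, Matrix.mulVec_smul]

theorem act_inv_act (g : G m) (v : V m) : act g⁻¹ (act g v) = v := by
  rw [← act_mul, inv_mul_cancel, act_one]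

theorem act_act_inv (g : G m) (v : V m) : act g (act g⁻¹ v) = v := by
  rw [← act_mul, mul_inv_cancel, act_one]

theorem act_injective (g : G m) : Function.Injective (act g) := by
  intro v w h
  rw [← act_inv_act g v, h, act_inv_act]

theorem act_eq_zero_iff (g : G m) (v : V m) : act g v = 0 ↔ v = 0 := by
  constructor
  · intro h
    exact act_injective g (by rw [h, act_zero])
  · rintro rfl
    exact act_zero g

theorem ff_act (g : G m) (u v : V m) : ff (act g u) (act g v) = ff u v :=
  (Cfsg.Agent.Lib.helper6.mem_symplecticGroup_iff_sympForm m g.1).1 g.2 u v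

/-- Two elements of `G m` with the same action are equal. -/
theorem ext_act {g h : G m} (H : ∀ x : V m, act g x = act h x) : g = h := by
  apply Subtype.ext
  ext i j
  have := congrFun (H (Pi.single j 1)) i
  simpa [act] using this

/-! ## transvections -/

theorem act_tv (v x : V m) : act (tv v) x = x + ff x v • v := by
  unfold act tv ff
  rw [Cfsg.Agent.Lib.helper6.sympTransvection_mulVec, one_mul]

@[simp] theorem tv_zero : tv (0 : V m) = 1 := by
  apply ext_act
  intro x
  rw [act_tv, smul_zero, add_zero, act_one]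

theorem tv_mul_self (v : V m) : tv v * tv v = 1 := by
  apply ext_act
  intro x
  rw [act_mul, act_tv, act_tv, ff_add_left, ff_smul_left, ff_self, mul_zero, add_zero, add_assoc,
    ← add_smul, z2_add_self, zero_smul, add_zero, act_one]

theorem tv_inv (v : V m) : (tv v)⁻¹ = tv v :=
  inv_eq_of_mul_eq_one_left (tv_mul_self v)

/-- `g * tv v * g⁻¹ = tv (g v)`. -/
theorem conj_tv (g : G m) (v : V m) : g * tv v * g⁻¹ = tv (act g v) := by
  apply ext_act
  intro x
  rw [act_mul, act_mul, act_tv, act_tv, act_add, act_smul, act_act_inv]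
  congr 2
  rw [← ff_act g (act g⁻¹ x) v, act_act_inv]

theorem tv_comm {v w : V m} (h : ff v w = 0) : tv v * tv w = tv w * tv v := by
  apply ext_act
  intro x
  simp only [act_mul, act_tv, ff_add_left, ff_smul_left, h, ff_comm w v, mul_zero, add_zero]
  abel

theorem tv_injective : Function.Injective (tv : V m → G m) := by
  intro v w h
  have key : ∀ x : V m, ff x v • v = ff x w • w := by
    intro x
    have := congrArg (fun g => act g x) h
    simp only [act_tv] at this
    exact add_left_cancel this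
  by_cases hv : v = 0
  · subst hv
    by_contra hw
    obtain ⟨x, hx⟩ := exists_ff_eq_one (Ne.symm hw)
    have := key x
    rw [ff_comm x w, hx, one_smul, smul_zero] at this
    exact hw this
  · obtain ⟨x, hx⟩ := exists_ff_eq_one hv
    have := key x
    rw [ff_comm x v, hx, one_smul] at this
    rcases z2_cases (ff x w) with h0 | h1
    · rw [h0, zero_smul] at this; exact absurd this hv
    · rw [h1, one_smul] at this; exact this

theorem tv_eq_one_iff (v : V m) : tv v = 1 ↔ v = 0 := by
  rw [← tv_zero]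
  exact tv_injective.eq_iff

/-! ## the elements `sg v w` -/

/-- The action of `sg v w` for `ff v w = 0`.  (Proof pattern used throughout: `funext i`, unfold to coordinates,
`generalize` all `ZMod 2` atoms, `decide`.) -/
theorem act_sg {v w : V m} (h : ff v w = 0) (x : V m) :
    act (sg v w) x = x + ff x v • w + ff x w • v := by
  unfold sg
  simp only [act_mul, act_tv, ff_add_left, ff_add_right, ff_smul_left, ff_self, h, ff_comm w v,
    mul_zero, add_zero]
  funext i
  simp only [Pi.add_apply, Pi.smul_apply, smul_eq_mul]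
  generalize ff x v = a; generalize ff x w = b; generalize x i = c; generalize v i = d
  generalize w i = e
  revert a b c d e; decide

theorem sg_comm {v w : V m} (h : ff v w = 0) : sg v w = sg w v := by
  apply ext_act
  intro x
  rw [act_sg h, act_sg (by rw [ff_comm]; exact h)]
  abel

@[simp] theorem sg_zero_right (v : V m) : sg v 0 = 1 := by
  unfold sg
  rw [tv_zero, mul_one, add_zero, tv_mul_self]

@[simp] theorem sg_zero_left (w : V m) : sg 0 w = 1 := by
  unfold sg
  rw [tv_zero, one_mul, zero_add, tv_mul_self]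

@[simp] theorem sg_self (v : V m) : sg v v = 1 := by
  unfold sg
  rw [v_add_self, tv_zero, mul_one, tv_mul_self]

/-- `sg v (v + w) = sg v w`. -/
theorem sg_add_self_right {v w : V m} (h : ff v w = 0) : sg v (v + w) = sg v w := by
  have h' : ff v (v + w) = 0 := by rw [ff_add_right, ff_self, h, add_zero]
  apply ext_act
  intro x
  rw [act_sg h', act_sg h, ff_add_right]
  funext i
  simp only [Pi.add_apply, Pi.smul_apply, smul_eq_mul]
  generalize ff x v = a; generalize ff x w = b; generalize x i = c; generalize v i = d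
  generalize w i = e
  revert a b c d e; decide

/-- `sg (v + w) w = sg v w`. -/
theorem sg_add_self_left {v w : V m} (h : ff v w = 0) : sg (v + w) w = sg v w := by
  have h1 : ff w v = 0 := by rw [ff_comm]; exact h
  have h' : ff (v + w) w = 0 := by rw [ff_add_left, ff_self, h, add_zero]
  rw [sg_comm h', add_comm v w, sg_add_self_right h1, sg_comm h1]

/-- `g * sg v w * g⁻¹ = sg (g v) (g w)`. -/
theorem conj_sg (g : G m) (v w : V m) : g * sg v w * g⁻¹ = sg (act g v) (act g w) := by
  unfold sg
  rw [← act_add, ← conj_tv, ← conj_tv, ← conj_tv]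
  group

/-- `sg v w` fixes `v` (for `ff v w = 0`). -/
theorem act_sg_self {v w : V m} (h : ff v w = 0) : act (sg v w) v = v := by
  rw [act_sg h, ff_self, zero_smul, add_zero, h, zero_smul, add_zero]

theorem act_tv_self (v : V m) : act (tv v) v = v := by
  rw [act_tv, ff_self, zero_smul, add_zero]

/-- `tv v` commutes with `sg v w`. -/
theorem tv_sg_comm {v w : V m} (h : ff v w = 0) : tv v * sg v w = sg v w * tv v := by
  have key := conj_tv (sg v w) v
  rw [act_sg_self h] at key
  calc tv v * sg v w = (sg v w * tv v * (sg v w)⁻¹) * sg v w := by rw [key]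
    _ = sg v w * tv v := by group

/-- The product rule: `sg v w * sg v w' = sg v (w + w')` when `w ⊥ w'`. -/
theorem sg_mul_sg_of_perp {v w w' : V m} (h : ff v w = 0) (h' : ff v w' = 0) (hww : ff w w' = 0) :
    sg v w * sg v w' = sg v (w + w') := by
  have h'' : ff v (w + w') = 0 := by rw [ff_add_right, h, h', add_zero]
  have hw'w : ff w' w = 0 := by rw [ff_comm]; exact hww
  apply ext_act
  intro x
  rw [act_mul, act_sg h', act_sg h, act_sg h'']
  simp only [ff_add_left, ff_add_right, ff_smul_left, ff_self, h, h', hww, hw'w, ff_comm w' v,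
    ff_comm w v, mul_zero, add_zero]
  funext i
  simp only [Pi.add_apply, Pi.smul_apply, smul_eq_mul]
  generalize ff x v = a; generalize ff x w = b; generalize ff x w' = b'; generalize x i = c
  generalize v i = d; generalize w i = e; generalize w' i = e'
  revert a b b' c d e e'; decide

/-- The product rule: `sg v w * sg v w' = sg v (w + w') * tv v` when `ff w w' = 1`. -/
theorem sg_mul_sg_of_hyp {v w w' : V m} (h : ff v w = 0) (h' : ff v w' = 0) (hww : ff w w' = 1) :
    sg v w * sg v w' = sg v (w + w') * tv v := by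
  have h'' : ff v (w + w') = 0 := by rw [ff_add_right, h, h', add_zero]
  have hw'w : ff w' w = 1 := by rw [ff_comm]; exact hww
  apply ext_act
  intro x
  rw [act_mul, act_sg h', act_sg h, act_mul, act_tv, act_sg h'']
  simp only [ff_add_left, ff_add_right, ff_smul_left, ff_self, h, h', hww, hw'w, ff_comm w' v,
    ff_comm w v, mul_zero, mul_one, add_zero, zero_add]
  funext i
  simp only [Pi.add_apply, Pi.smul_apply, smul_eq_mul]
  generalize ff x v = a; generalize ff x w = b; generalize ff x w' = b'; generalize x i = c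
  generalize v i = d; generalize w i = e; generalize w' i = e'
  revert a b b' c d e e'; decide

theorem sg_mul_self {v w : V m} (h : ff v w = 0) : sg v w * sg v w = 1 := by
  rw [sg_mul_sg_of_perp h h (ff_self w), v_add_self, sg_zero_right]

theorem sg_inv {v w : V m} (h : ff v w = 0) : (sg v w)⁻¹ = sg v w :=
  inv_eq_of_mul_eq_one_left (sg_mul_self h)

/-! ## transvections with a scalar, and the elements `qe v w c = sg v w * tvc v c` of `Q_v` -/

/-- `x ↦ x + (c * ff x v) • v`; `tvc v 1 = tv v`, `tvc v 0 = 1`. -/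
def tvc (v : V m) (c : ZMod 2) : G m :=
  ⟨Cfsg.sympTransvection m v c, Cfsg.Agent.Lib.helper6.sympTransvection_mem m v c⟩

theorem act_tvc (v : V m) (c : ZMod 2) (x : V m) : act (tvc v c) x = x + (c * ff x v) • v := by
  unfold act tvc ff
  rw [Cfsg.Agent.Lib.helper6.sympTransvection_mulVec]

theorem tvc_one (v : V m) : tvc v 1 = tv v := rfl

@[simp] theorem tvc_zero (v : V m) : tvc v 0 = 1 := by
  apply ext_act
  intro x
  rw [act_tvc, zero_mul, zero_smul, add_zero, act_one]

theorem tvc_eq (v : V m) (c : ZMod 2) : tvc v c = if c = 0 then 1 else tv v := by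
  rcases z2_cases c with rfl | rfl
  · simp
  · simp [tvc_one]

/-- `qe v w c = sg v w * tvc v c`: for `ff v w = 0` the map `x ↦ x + ff x v • w + ff x w • v + (c * ff x v) • v`.
For `v ≠ 0` these are the `2^(2m-1)` elements of the group `Qv v` (`qe v (v + w) c = qe v w c`). -/
def qe (v w : V m) (c : ZMod 2) : G m := sg v w * tvc v c

theorem qe_zero_c (v w : V m) : qe v w 0 = sg v w := by
  unfold qe; rw [tvc_zero, mul_one]

theorem qe_one_c (v w : V m) : qe v w 1 = sg v w * tv v := rfl

theorem act_qe {v w : V m} (h : ff v w = 0) (c : ZMod 2) (x : V m) :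
    act (qe v w c) x = x + ff x v • w + ff x w • v + (c * ff x v) • v := by
  unfold qe
  rw [act_mul, act_tvc, act_sg h]
  simp only [ff_add_left, ff_smul_left, ff_self, h, mul_zero, add_zero]
  funext i
  simp only [Pi.add_apply, Pi.smul_apply, smul_eq_mul]
  generalize ff x v = a; generalize ff x w = b; generalize x i = d; generalize v i = e
  generalize w i = e'
  revert a b c d e e'; decide

/-- The multiplication rule in `Q_v`. -/
theorem qe_mul {v w w' : V m} (h : ff v w = 0) (h' : ff v w' = 0) (c c' : ZMod 2) :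
    qe v w c * qe v w' c' = qe v (w + w') (c + c' + ff w w') := by
  have h'' : ff v (w + w') = 0 := by rw [ff_add_right, h, h', add_zero]
  apply ext_act
  intro x
  rw [act_mul, act_qe h', act_qe h, act_qe h'']
  simp only [ff_add_left, ff_add_right, ff_smul_left, ff_self, h, h', ff_comm w' v, ff_comm w v,
    ff_comm w' w, mul_zero, add_zero]
  funext i
  simp only [Pi.add_apply, Pi.smul_apply, smul_eq_mul]
  generalize ff x v = a; generalize ff x w = b; generalize ff x w' = b'; generalize ff w w' = t
  generalize x i = d; generalize v i = e; generalize w i = e1; generalize w' i = e2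
  revert a b b' t c c' d e e1 e2; decide

@[simp] theorem qe_zero (v : V m) : qe v 0 0 = 1 := by
  unfold qe; rw [sg_zero_right, tvc_zero, mul_one]

theorem qe_mul_self {v w : V m} (h : ff v w = 0) (c : ZMod 2) : qe v w c * qe v w c = 1 := by
  rw [qe_mul h h, v_add_self, ff_self, add_zero, z2_add_self, qe_zero]

theorem qe_inv {v w : V m} (h : ff v w = 0) (c : ZMod 2) : (qe v w c)⁻¹ = qe v w c :=
  inv_eq_of_mul_eq_one_left (qe_mul_self h c)

/-- `qe v (v + w) c = qe v w c`. -/
theorem qe_add_self {v w : V m} (h : ff v w = 0) (c : ZMod 2) : qe v (v + w) c = qe v w c := by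
  unfold qe; rw [sg_add_self_right h]

/-- `qe v w c` fixes `v`. -/
theorem act_qe_self {v w : V m} (h : ff v w = 0) (c : ZMod 2) : act (qe v w c) v = v := by
  rw [act_qe h, ff_self, h]
  simp

/-- On `v^⊥` the element `qe v w c` is `x ↦ x + ff x w • v`. -/
theorem act_qe_of_perp {v w : V m} (h : ff v w = 0) (c : ZMod 2) {x : V m} (hx : ff v x = 0) :
    act (qe v w c) x = x + ff x w • v := by
  rw [act_qe h, ff_comm x v, hx]
  simp

/-- `g * qe v w c * g⁻¹ = qe (g v) (g w) c`. -/
theorem conj_qe (g : G m) (v w : V m) (c : ZMod 2) :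
    g * qe v w c * g⁻¹ = qe (act g v) (act g w) c := by
  unfold qe
  rw [← conj_sg, tvc_eq, tvc_eq]
  split_ifs
  · group
  · rw [← conj_tv]; group

/-- The stabiliser of the vector `v`. -/
def Kv (v : V m) : Subgroup (G m) where
  carrier := {g | act g v = v}
  mul_mem' := by
    intro a b ha hb
    simp only [Set.mem_setOf_eq] at ha hb ⊢
    rw [act_mul, hb, ha]
  one_mem' := act_one v
  inv_mem' := by
    intro a ha
    simp only [Set.mem_setOf_eq] at ha ⊢
    rw [← ha, act_inv_act, ha]

theorem mem_Kv {v : V m} {g : G m} : g ∈ Kv v ↔ act g v = v := Iff.rfl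

/-- The group `Q_v = {qe v w c : ff v w = 0}` (elementary abelian of order `2^(2m-1)` for `v ≠ 0`). -/
def Qv (v : V m) : Subgroup (G m) where
  carrier := {g | ∃ (w : V m) (c : ZMod 2), ff v w = 0 ∧ g = qe v w c}
  mul_mem' := by
    rintro a b ⟨w, c, hw, rfl⟩ ⟨w', c', hw', rfl⟩
    exact ⟨w + w', c + c' + ff w w', by rw [ff_add_right, hw, hw', add_zero], qe_mul hw hw' c c'⟩
  one_mem' := ⟨0, 0, ff_zero_right v, (qe_zero v).symm⟩
  inv_mem' := by
    rintro a ⟨w, c, hw, rfl⟩
    exact ⟨w, c, hw, qe_inv hw c⟩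

theorem mem_Qv {v : V m} {g : G m} :
    g ∈ Qv v ↔ ∃ (w : V m) (c : ZMod 2), ff v w = 0 ∧ g = qe v w c := Iff.rfl

theorem qe_mem_Qv {v w : V m} (h : ff v w = 0) (c : ZMod 2) : qe v w c ∈ Qv v := ⟨w, c, h, rfl⟩

theorem tv_mem_Qv (v : V m) : tv v ∈ Qv v :=
  ⟨0, 1, ff_zero_right v, by unfold qe; rw [sg_zero_right, one_mul, tvc_one]⟩

theorem Qv_le_Kv (v : V m) : Qv v ≤ Kv v := by
  rintro g ⟨w, c, hw, rfl⟩
  exact act_qe_self hw c

/-! ## the data attached to a subgroup `H` -/

/-- `X_v(H)`: the `w ⊥ v` such that some `qe v w c` lies in `H` (the image of `H ⊓ Qv v` in `v^⊥`). -/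
def XA (H : Subgroup (G m)) (v : V m) : Set (V m) := {w | ff v w = 0 ∧ ∃ c : ZMod 2, qe v w c ∈ H}

/-- The orthogonal of a set of vectors. -/
def perp (X : Set (V m)) : Set (V m) := {y | ∀ x ∈ X, ff x y = 0}

/-- `H` contains no transvection. -/
def NoTv (H : Subgroup (G m)) : Prop := ∀ v : V m, v ≠ 0 → tv v ∉ H

/-- `X_v(H) = v^⊥` for every `v`. -/
def Full (H : Subgroup (G m)) : Prop := ∀ v w : V m, ff v w = 0 → ∃ c : ZMod 2, qe v w c ∈ H

/-- `eps H v w = 0` iff `sg v w ∈ H`. -/
noncomputable def eps (H : Subgroup (G m)) (v w : V m) : ZMod 2 := by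
  classical exact if sg v w ∈ H then 0 else 1

theorem eps_eq_zero_iff (H : Subgroup (G m)) (v w : V m) : eps H v w = 0 ↔ sg v w ∈ H := by
  classical
  unfold eps
  split_ifs with h <;> simp [h]

theorem eps_eq_one_iff (H : Subgroup (G m)) (v w : V m) : eps H v w = 1 ↔ sg v w ∉ H := by
  classical
  unfold eps
  split_ifs with h <;> simp [h]

@[simp] theorem eps_self (H : Subgroup (G m)) (v : V m) : eps H v v = 0 := by
  rw [eps_eq_zero_iff, sg_self]; exact H.one_mem

@[simp] theorem eps_zero_right (H : Subgroup (G m)) (v : V m) : eps H v 0 = 0 := by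
  rw [eps_eq_zero_iff, sg_zero_right]; exact H.one_mem

@[simp] theorem eps_zero_left (H : Subgroup (G m)) (v : V m) : eps H 0 v = 0 := by
  rw [eps_eq_zero_iff, sg_zero_left]; exact H.one_mem

theorem eps_comm (H : Subgroup (G m)) {v w : V m} (h : ff v w = 0) : eps H v w = eps H w v := by
  classical
  unfold eps
  rw [sg_comm h]

/-- Under `Full` and `NoTv`, `qe v w c ∈ H ↔ c = eps H v w` (for `v ≠ 0`, `ff v w = 0`). -/
theorem qe_mem_iff {H : Subgroup (G m)} (hF : Full H) (hN : NoTv H) {v w : V m} (hv : v ≠ 0)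
    (h : ff v w = 0) (c : ZMod 2) : qe v w c ∈ H ↔ c = eps H v w := by
  have hno : ¬ (sg v w ∈ H ∧ sg v w * tv v ∈ H) := by
    rintro ⟨h1, h2⟩
    have : tv v ∈ H := by
      have := H.mul_mem (H.inv_mem h1) h2
      rwa [inv_mul_cancel_left] at this
    exact hN v hv this
  obtain ⟨c0, hc0⟩ := hF v w h
  rcases z2_cases c with rfl | rfl
  · rw [qe_zero_c, eq_comm, eps_eq_zero_iff]
  · rw [qe_one_c, eq_comm, eps_eq_one_iff]
    constructor
    · intro h2 h1; exact hno ⟨h1, h2⟩
    · intro h1
      rcases z2_cases c0 with rfl | rfl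
      · rw [qe_zero_c] at hc0; exact absurd hc0 h1
      · rwa [qe_one_c] at hc0

/-! ## the quadratic form of minus type -/

/-- `Φ₀(x) = Σ_i x_i y_i + x_0 + y_0` (`x_i = x (inl i)`, `y_i = x (inr i)`): a quadratic form of minus type with polar
form `ff` (over `ZMod 2`, `x_0 + x_0 y_0 + y_0 = x_0^2 + x_0 y_0 + y_0^2`). -/
def Phi0 (x : V m) : ZMod 2 :=
  (∑ i : Fin m, x (Sum.inl i) * x (Sum.inr i)) +
    (if h : 0 < m then x (Sum.inl ⟨0, h⟩) + x (Sum.inr ⟨0, h⟩) else 0)

theorem ff_eq_sum (u v : V m) :
    ff u v = ∑ i : Fin m, (u (Sum.inr i) * v (Sum.inl i) + u (Sum.inl i) * v (Sum.inr i)) := by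
  unfold ff
  rw [Cfsg.Agent.Lib.helper6.SB.sympForm_eq_sum]
  refine Finset.sum_congr rfl fun i _ => ?_
  rw [sub_eq_add_neg, z2_neg]

/-- `ff` is the polar form of `Phi0`. -/
theorem Phi0_add (x y : V m) : Phi0 (x + y) = Phi0 x + Phi0 y + ff x y := by
  unfold Phi0
  rw [ff_eq_sum]
  have e : (∑ i : Fin m, (x + y) (Sum.inl i) * (x + y) (Sum.inr i)) =
      (∑ i : Fin m, x (Sum.inl i) * x (Sum.inr i)) + (∑ i : Fin m, y (Sum.inl i) * y (Sum.inr i)) +
      ∑ i : Fin m, (x (Sum.inr i) * y (Sum.inl i) + x (Sum.inl i) * y (Sum.inr i)) := by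
    rw [← Finset.sum_add_distrib, ← Finset.sum_add_distrib]
    refine Finset.sum_congr rfl fun i _ => ?_
    simp only [Pi.add_apply]
    ring
  rw [e]
  split_ifs with h
  · simp only [Pi.add_apply]; ring
  · ring

@[simp] theorem Phi0_zero : Phi0 (0 : V m) = 0 := by
  unfold Phi0
  simp

/-- `Phi0 (tv a x) = Phi0 x + ff x a * (Phi0 a + 1)`. -/
theorem Phi0_tv (a x : V m) : Phi0 (act (tv a) x) = Phi0 x + ff x a * (Phi0 a + 1) := by
  rw [act_tv]
  rcases z2_cases (ff x a) with h | h
  · rw [h, zero_smul, add_zero, zero_mul, add_zero]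
  · rw [h, one_smul, Phi0_add, h, one_mul]; ring

/-- The number `2^(m-1) * (2^m - 1)`. -/
def bnd (m : ℕ) : ℕ := 2 ^ (m - 1) * (2 ^ m - 1)

/-- The nonzero vectors. -/
abbrev NZ (m : ℕ) : Type := {v : V m // v ≠ 0}

/-- Adjacency matrix of the non-perpendicularity graph on the nonzero vectors. -/
def adjM (m : ℕ) : Matrix (NZ m) (NZ m) ℚ := Matrix.of fun x y => if ff x.1 y.1 = 1 then 1 else 0

/-- The all-ones matrix. -/
def allOne (Δ : Type*) : Matrix Δ Δ ℚ := Matrix.of fun _ _ => 1

/-! ## further basic facts -/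

theorem z2_aux1 : ∀ a b c c' p q r : ZMod 2,
    p + a * r + c * r = q + b * r + c' * r → q = p + (a + c + b + c') * r := by decide

theorem z2_aux2 : ∀ c c' r : ZMod 2, c * r = c' * r → (c + c') * r = 0 := by decide

theorem z2_aux3 : ∀ c c' : ZMod 2, c + c' = 0 → c = c' := by decide

theorem z2_aux4 : ∀ a c c' r p : ZMod 2,
    p + a * r + c * r = r + p + (1 + a) * r + c' * r → (c + c') * r = 0 := by decide

/-- When two elements `qe v w c` coincide. -/
theorem qe_eq_iff {v w w' : V m} (hv : v ≠ 0) (h : ff v w = 0) (h' : ff v w' = 0) (c c' : ZMod 2) :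
    qe v w c = qe v w' c' ↔ (w' = w ∨ w' = v + w) ∧ c = c' := by
  constructor
  · intro he
    obtain ⟨x, hx⟩ := exists_ff_eq_one hv
    have hx' : ff x v = 1 := by rw [ff_comm]; exact hx
    have key : ∀ y : V m, ff y v • w + ff y w • v + (c * ff y v) • v
        = ff y v • w' + ff y w' • v + (c' * ff y v) • v := by
      intro y
      have := congrArg (fun g => act g y) he
      simp only [act_qe h, act_qe h'] at this
      have e1 : y + ff y v • w + ff y w • v + (c * ff y v) • v
          = y + (ff y v • w + ff y w • v + (c * ff y v) • v) := by abel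
      have e2 : y + ff y v • w' + ff y w' • v + (c' * ff y v) • v
          = y + (ff y v • w' + ff y w' • v + (c' * ff y v) • v) := by abel
      rw [e1, e2] at this
      exact add_left_cancel this
    have k1 := key x
    rw [hx', one_smul, one_smul, mul_one, mul_one] at k1
    have hw' : w' = w ∨ w' = v + w := by
      have : w' = w + (ff x w + c + ff x w' + c') • v := by
        funext i
        have := congrFun k1 i
        simp only [Pi.add_apply, Pi.smul_apply, smul_eq_mul] at this ⊢
        exact z2_aux1 _ _ _ _ _ _ _ this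
      rcases z2_cases (ff x w + c + ff x w' + c') with h0 | h1
      · left; rw [this, h0, zero_smul, add_zero]
      · right; rw [this, h1, one_smul, add_comm]
    refine ⟨hw', ?_⟩
    have hcc : (c + c') • v = 0 := by
      rcases hw' with rfl | rfl
      · rw [add_left_cancel_iff] at k1
        funext i
        have := congrFun k1 i
        simp only [Pi.smul_apply, smul_eq_mul, Pi.zero_apply] at this ⊢
        exact z2_aux2 _ _ _ this
      · rw [ff_add_right, hx'] at k1
        funext i
        have := congrFun k1 i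
        simp only [Pi.add_apply, Pi.smul_apply, smul_eq_mul, Pi.zero_apply] at this ⊢
        exact z2_aux4 _ _ _ _ _ this
    rcases z2_cases (c + c') with h0 | h1
    · exact z2_aux3 _ _ h0
    · rw [h1, one_smul] at hcc; exact absurd hcc hv
  · rintro ⟨hw | hw, rfl⟩
    · rw [hw]
    · rw [hw, qe_add_self h]

theorem XA_zero (H : Subgroup (G m)) (v : V m) : (0 : V m) ∈ XA H v :=
  ⟨ff_zero_right v, 0, by rw [qe_zero]; exact H.one_mem⟩

theorem XA_self (H : Subgroup (G m)) (v : V m) : v ∈ XA H v :=
  ⟨ff_self v, 0, by rw [qe_zero_c, sg_self]; exact H.one_mem⟩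

theorem XA_add (H : Subgroup (G m)) {v w w' : V m} (hw : w ∈ XA H v) (hw' : w' ∈ XA H v) :
    w + w' ∈ XA H v := by
  obtain ⟨h, c, hc⟩ := hw
  obtain ⟨h', c', hc'⟩ := hw'
  refine ⟨by rw [ff_add_right, h, h', add_zero], c + c' + ff w w', ?_⟩
  rw [← qe_mul h h']
  exact H.mul_mem hc hc'

theorem XA_perp (H : Subgroup (G m)) {v w : V m} (hw : w ∈ XA H v) : ff v w = 0 := hw.1

/-- The quadratic identity for `eps H v ·` on `v^⊥`. -/
theorem eps_add {H : Subgroup (G m)} (hF : Full H) (hN : NoTv H) {v w w' : V m} (hv : v ≠ 0)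
    (h : ff v w = 0) (h' : ff v w' = 0) :
    eps H v (w + w') = eps H v w + eps H v w' + ff w w' := by
  have h'' : ff v (w + w') = 0 := by rw [ff_add_right, h, h', add_zero]
  have h1 := (qe_mem_iff hF hN hv h (eps H v w)).2 rfl
  have h2 := (qe_mem_iff hF hN hv h' (eps H v w')).2 rfl
  have h3 := H.mul_mem h1 h2
  rw [qe_mul h h'] at h3
  exact ((qe_mem_iff hF hN hv h'' _).1 h3).symm

/-- If `sg v w ∉ H` (and `Full H`) then `tv v * tv w ∈ H`. -/
theorem pair_mem {H : Subgroup (G m)} (hF : Full H) {v w : V m} (h : ff v w = 0)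
    (he : eps H v w = 1) : tv v * tv w ∈ H := by
  rw [eps_eq_one_iff] at he
  have hwv : ff w v = 0 := by rw [ff_comm]; exact h
  have h1 : sg v w * tv v ∈ H := by
    obtain ⟨c, hc⟩ := hF v w h
    rcases z2_cases c with rfl | rfl
    · rw [qe_zero_c] at hc; exact absurd hc he
    · rwa [qe_one_c] at hc
  have h2 : sg v w * tv w ∈ H := by
    obtain ⟨c, hc⟩ := hF w v hwv
    rcases z2_cases c with rfl | rfl
    · rw [qe_zero_c, ← sg_comm h] at hc; exact absurd hc he
    · rwa [qe_one_c, ← sg_comm h] at hc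
  have := H.mul_mem (H.inv_mem h1) h2
  rwa [_root_.mul_inv_rev, tv_inv, mul_assoc, inv_mul_cancel_left] at this

/-- The seven transvections of a totally isotropic `3`-space multiply to `1`. -/
theorem prod_seven {a b c : V m} (hab : ff a b = 0) (hac : ff a c = 0) (hbc : ff b c = 0) :
    tv a * tv b * tv (a + b) * tv c * tv (a + c) * tv (b + c) * tv (a + b + c) = 1 := by
  have hba : ff b a = 0 := by rw [ff_comm]; exact hab
  have hca : ff c a = 0 := by rw [ff_comm]; exact hac
  have hcb : ff c b = 0 := by rw [ff_comm]; exact hbc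
  apply ext_act
  intro x
  simp only [act_mul, act_tv, act_one, ff_add_left, ff_add_right, ff_smul_left, ff_self, hab, hac,
    hbc, hba, hca, hcb, mul_zero, add_zero]
  funext i
  simp only [Pi.add_apply, Pi.smul_apply, smul_eq_mul]
  generalize ff x a = p; generalize ff x b = q; generalize ff x c = r; generalize x i = s
  generalize a i = t; generalize b i = u; generalize c i = w
  revert p q r s t u w; decide

/-- The centre of `G m` is trivial. -/
theorem center_eq_bot : Subgroup.center (G m) = ⊥ := by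
  rw [eq_bot_iff]
  intro z hz
  rw [Subgroup.mem_bot]
  apply ext_act
  intro v
  rw [act_one]
  have h1 : z * tv v * z⁻¹ = tv v := by
    rw [Subgroup.mem_center_iff] at hz
    rw [← hz (tv v)]
    group
  rw [conj_tv] at h1
  exact tv_injective h1

/-- The stabiliser of the vector `v` and of the set `X`. -/
def stabSet (v : V m) (X : Set (V m)) : Subgroup (G m) where
  carrier := {g | act g v = v ∧ act g '' X = X}
  mul_mem' := by
    rintro a b ⟨ha, ha'⟩ ⟨hb, hb'⟩
    refine ⟨by rw [act_mul, hb, ha], ?_⟩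
    have : act (a * b) = act a ∘ act b := by funext x; exact act_mul a b x
    rw [this, Set.image_comp, hb', ha']
  one_mem' := by
    refine ⟨act_one v, ?_⟩
    have : act (1 : G m) = id := by funext x; exact act_one x
    rw [this, Set.image_id]
  inv_mem' := by
    rintro a ⟨ha, ha'⟩
    refine ⟨by rw [← ha, act_inv_act, ha], ?_⟩
    have : act a⁻¹ '' (act a '' X) = X := by
      rw [← Set.image_comp]
      have : act a⁻¹ ∘ act a = id := by funext x; exact act_inv_act a x
      rw [this, Set.image_id]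
    rw [ha'] at this
    exact this

theorem mem_stabSet {v : V m} {X : Set (V m)} {g : G m} :
    g ∈ stabSet v X ↔ act g v = v ∧ act g '' X = X := Iff.rfl

theorem stabSet_le_Kv (v : V m) (X : Set (V m)) : stabSet v X ≤ Kv v := fun _ hg => hg.1

/-- The hyperbolic quadratic form `Σ_i x_i y_i`. -/
def Q0 (x : V m) : ZMod 2 := ∑ i : Fin m, x (Sum.inl i) * x (Sum.inr i)

/-- The vector `e_0 + f_0`. -/
def a0 (hm : 0 < m) : V m := Pi.single (Sum.inl ⟨0, hm⟩) 1 + Pi.single (Sum.inr ⟨0, hm⟩) 1

theorem Phi0_eq_Q0 (hm : 0 < m) (x : V m) :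
    Phi0 x = Q0 x + x (Sum.inl ⟨0, hm⟩) + x (Sum.inr ⟨0, hm⟩) := by
  unfold Phi0 Q0
  rw [dif_pos hm, add_assoc]

end Cfsg.Agent.Lib.helper2.MI2
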